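import Mathlib.GroupTheory.Perm.Sign
import Mathlib.Data.Nat.Find
import Cfsg.Agent.GLn.Tables

/-! Permutations with `κ i ≤ i + 1` and their cut sets. -/

set_option autoImplicit false

namespace CfsgLib.GLn.StValues

open Finset

variable {n : ℕ}

/-- The permutations that occur for the partition into ones. -/
def Valid (κ : Equiv.Perm (Fin n)) : Prop := ∀ i : Fin n, (κ i).val ≤ i.val + 1

/-- The cuts of a permutation. -/
def cuts (κ : Equiv.Perm (Fin n)) : Finset ℕ :=
  (Ico 1 n).filter fun e => ∀ i : Fin n, i.val + 1 = e → (κ i).val ≠ e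

/-- The largest cut not above `k`, with `0` and `n` counted as cuts. -/
def cutFloor (n : ℕ) (E : Finset ℕ) (k : ℕ) : ℕ :=
  Nat.findGreatest (fun e => e ∈ E ∨ e = n) k

theorem cutFloor_zero (E : Finset ℕ) : cutFloor n E 0 = 0 := Nat.findGreatest_zero

theorem cutFloor_le (E : Finset ℕ) (k : ℕ) : cutFloor n E k ≤ k := Nat.findGreatest_le k

theorem cutFloor_of_ge (E : Finset ℕ) (hE : E ⊆ Ico 1 n) {k : ℕ} (hk : n ≤ k) : cutFloor n E k = n := by
  refine le_antisymm ?_ (Nat.le_findGreatest hk (Or.inr rfl))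
  by_cases h0 : cutFloor n E k = 0
  · omega
  · rcases Nat.findGreatest_of_ne_zero (rfl : cutFloor n E k = _) h0 with h | h
    · exact (mem_Ico.1 (hE h)).2.le
    · exact h.le

theorem cutFloor_of_mem {E : Finset ℕ} {e : ℕ} (he : e ∈ E) : cutFloor n E e = e :=
  le_antisymm (cutFloor_le E e) (Nat.le_findGreatest le_rfl (Or.inl he))

theorem cutFloor_mem {E : Finset ℕ} {k : ℕ} (hk : k < n) (h0 : cutFloor n E k ≠ 0) :
    cutFloor n E k ∈ E := by
  rcases Nat.findGreatest_of_ne_zero (rfl : cutFloor n E k = _) h0 with h | h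
  · exact h
  · exact absurd h (by have := cutFloor_le (n := n) E k; omega)

/-- A valid permutation maps an initial segment ending at a cut onto itself. -/
theorem image_initial {κ : Equiv.Perm (Fin n)} (hκ : Valid κ) {k : ℕ}
    (hk : ∀ i : Fin n, i.val = k → (κ i).val ≠ k + 1) :
    (univ.filter fun i : Fin n => i.val < k + 1).image κ = univ.filter fun i : Fin n => i.val < k + 1 := by
  refine eq_of_subset_of_card_le (fun j hj => ?_) ?_
  · obtain ⟨i, hi, rfl⟩ := mem_image.1 hj
    simp only [mem_filter, mem_univ, true_and] at hi ⊢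
    have h1 := hκ i
    rcases Nat.lt_succ_iff_lt_or_eq.1 hi with h | h
    · omega
    · have := hk i h; omega
  · rw [card_image_of_injective _ κ.injective]

theorem sum_part (κ : Equiv.Perm (Fin n)) (hκ : Valid κ) :
    ∑ i, (1 + i.val - (κ i).val) = n := by
  have h : ∑ i, (1 + i.val - (κ i).val) + ∑ i : Fin n, (κ i).val = ∑ i : Fin n, (1 + i.val) := by
    rw [← sum_add_distrib]
    exact sum_congr rfl fun i _ => Nat.sub_add_cancel (by have := hκ i; omega)
  rw [Equiv.sum_comp κ (fun i : Fin n => i.val), sum_add_distrib, sum_const, card_univ,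
    Fintype.card_fin, smul_eq_mul, mul_one] at h
  omega

theorem prefixSum_cuts (κ : Equiv.Perm (Fin n)) (hκ : Valid κ) (k : ℕ) :
    prefixSum (fun i : Fin n => 1 + i.val - (κ i).val) k = cutFloor n (cuts κ) k := by
  rcases le_or_gt n k with h | h
  · rw [cutFloor_of_ge (cuts κ) (filter_subset _ _) h]
    refine le_antisymm (prefixSum_le (sum_part κ hκ) k) ?_
    calc n = prefixSum (fun i : Fin n => 1 + i.val - (κ i).val) n := (prefixSum_n (sum_part κ hκ)).symm
      _ ≤ _ := prefixSum_mono _ h
  induction k with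
  | zero => rw [cutFloor_zero]; simp [prefixSum]
  | succ k ih =>
    by_cases hc : k + 1 ∈ cuts κ
    · rw [cutFloor_of_mem hc]
      have hne : ∀ i : Fin n, i.val = k → (κ i).val ≠ k + 1 := fun i hi =>
        (mem_filter.1 hc).2 i (by omega)
      have himg := image_initial hκ hne
      set S := univ.filter fun i : Fin n => i.val < k + 1 with hS
      have h1 : prefixSum (fun i : Fin n => 1 + i.val - (κ i).val) (k + 1) + ∑ i ∈ S, (κ i).val =
          ∑ i ∈ S, (1 + i.val) := by
        rw [prefixSum, ← hS, ← sum_add_distrib]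
        exact sum_congr rfl fun i _ => Nat.sub_add_cancel (by have := hκ i; omega)
      have h2 : ∑ i ∈ S, (κ i).val = ∑ i ∈ S, i.val := by
        conv_rhs => rw [← himg]
        rw [sum_image fun a _ b _ e => κ.injective e]
      have hcard : S.card = k + 1 := by
        rw [hS, show (univ.filter fun i : Fin n => i.val < k + 1) = Finset.Iio ⟨k + 1, h⟩ by
          ext i; simp [Fin.lt_def], Fin.card_Iio]
      rw [h2, sum_add_distrib, sum_const, smul_eq_mul, mul_one, hcard] at h1
      omega
    · have hex : ∃ i : Fin n, i.val + 1 = k + 1 ∧ (κ i).val = k + 1 := by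
        by_contra hno
        push Not at hno
        exact hc (mem_filter.2 ⟨mem_Ico.2 ⟨by omega, h⟩, hno⟩)
      obtain ⟨i, hi, hκi⟩ := hex
      have hk : k = i.val := by omega
      subst hk
      rw [prefixSum_succ, ih (by omega)]
      simp only [hκi]
      rw [show 1 + i.val - (i.val + 1) = 0 by omega, add_zero]
      exact (Nat.findGreatest_of_not (P := fun e => e ∈ cuts κ ∨ e = n)
        (fun h' => h'.elim hc (by omega))).symm

theorem eq_of_cuts_eq {κ κ' : Equiv.Perm (Fin n)} (hκ : Valid κ) (hκ' : Valid κ')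
    (h : cuts κ = cuts κ') : κ = κ' := by
  suffices ∀ k, ∀ i : Fin n, i.val = k → κ i = κ' i from Equiv.ext fun i => this _ i rfl
  intro k
  induction k using Nat.strong_induction_on with
  | _ k ih =>
    intro i hi
    by_cases hmem : k + 1 < n ∧ k + 1 ∉ cuts κ
    · obtain ⟨hk, hc⟩ := hmem
      have val : ∀ τ : Equiv.Perm (Fin n), k + 1 ∉ cuts τ → (τ i).val = k + 1 := fun τ hτ => by
        by_contra hno
        refine hτ (mem_filter.2 ⟨mem_Ico.2 ⟨by omega, hk⟩, fun j hj => ?_⟩)
        rw [show j = i from Fin.ext (by omega)]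
        exact hno
      exact Fin.ext ((val κ hc).trans (val κ' (h ▸ hc)).symm)
    · have hne : ∀ τ : Equiv.Perm (Fin n), cuts τ = cuts κ →
          ∀ j : Fin n, j.val = k → (τ j).val ≠ k + 1 := by
        intro τ hτ j hj e
        have hlt : k + 1 < n := e ▸ (τ j).isLt
        have hin : k + 1 ∈ cuts κ := by
          by_contra h'; exact hmem ⟨hlt, h'⟩
        rw [← hτ] at hin
        exact (mem_filter.1 hin).2 j (by omega) e
      have h1 : κ' i ∈ (univ.filter fun j : Fin n => j.val < k + 1).image κ := by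
        rw [image_initial hκ (hne κ rfl), ← image_initial hκ' (hne κ' h.symm)]
        exact mem_image_of_mem _ (mem_filter.2 ⟨mem_univ _, by omega⟩)
      obtain ⟨j, hj, hji⟩ := mem_image.1 h1
      simp only [mem_filter, mem_univ, true_and] at hj
      rcases Nat.lt_succ_iff_lt_or_eq.1 hj with hlt | heq
      · rw [ih j.val hlt j rfl] at hji
        have := κ'.injective hji
        exact absurd (congrArg Fin.val this) (by omega)
      · rw [show j = i from Fin.ext (by omega)] at hji
        exact hji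

theorem exists_perm_upto (E : Finset ℕ) : ∀ k, k < n → ∃ κ : Equiv.Perm (Fin n),
    (∀ i : Fin n, k < i.val → κ i = i) ∧ Valid κ ∧
    (∀ i : Fin n, i.val < k → ((κ i).val = i.val + 1 ↔ i.val + 1 ∉ E)) ∧
    (Equiv.Perm.sign κ : ℤ) = (-1) ^ ((Icc 1 k).filter fun e => e ∉ E).card := by
  intro k
  induction k with
  | zero =>
    intro _
    exact ⟨1, fun i _ => rfl, fun i => by simp, fun i hi => absurd hi (by omega), by simp⟩
  | succ k ih =>
    intro hk
    obtain ⟨κ, hfix, hv, hiff, hsg⟩ := ih (by omega)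
    have hIcc : Icc 1 (k + 1) = insert (k + 1) (Icc 1 k) := by
      ext e; simp only [mem_Icc, mem_insert]; omega
    by_cases hc : k + 1 ∈ E
    · refine ⟨κ, fun i hi => hfix i (by omega), hv, fun i hi => ?_, ?_⟩
      · rcases Nat.lt_succ_iff_lt_or_eq.1 hi with h | h
        · exact hiff i h
        · refine iff_of_false (fun e => ?_) (fun h' => h' (h ▸ hc))
          have : κ i = ⟨k + 1, hk⟩ := Fin.ext (by simp only; omega)
          rw [← hfix ⟨k + 1, hk⟩ (by simp)] at this
          have := congrArg Fin.val (κ.injective this)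
          simp only at this
          omega
      · rw [hsg, hIcc, filter_insert, if_neg (by simp [hc])]
    · have hne : (⟨k, by omega⟩ : Fin n) ≠ ⟨k + 1, hk⟩ := fun e => by simp [Fin.ext_iff] at e
      refine ⟨κ * Equiv.swap ⟨k, by omega⟩ ⟨k + 1, hk⟩, fun i hi => ?_, fun i => ?_, fun i hi => ?_, ?_⟩
      · rw [Equiv.Perm.mul_apply, Equiv.swap_apply_of_ne_of_ne (Fin.ne_of_val_ne (by simp only; omega))
          (Fin.ne_of_val_ne (by simp only; omega))]
        exact hfix i (by omega)
      · rw [Equiv.Perm.mul_apply]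
        rcases eq_or_ne i ⟨k, by omega⟩ with rfl | h1
        · rw [Equiv.swap_apply_left, hfix _ (by simp)]
        rcases eq_or_ne i ⟨k + 1, hk⟩ with rfl | h2
        · rw [Equiv.swap_apply_right]
          have := hv ⟨k, by omega⟩
          simp only at this ⊢
          omega
        rw [Equiv.swap_apply_of_ne_of_ne h1 h2]
        exact hv i
      · rw [Equiv.Perm.mul_apply]
        rcases eq_or_ne i ⟨k, by omega⟩ with h1 | h1
        · rw [h1, Equiv.swap_apply_left, hfix ⟨k + 1, hk⟩ (by simp)]
          simp [hc]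
        rw [Equiv.swap_apply_of_ne_of_ne h1 (Fin.ne_of_val_ne (by simp only; omega))]
        refine hiff i ?_
        have : i.val ≠ k := fun e => h1 (Fin.ext e)
        omega
      · rw [map_mul, Equiv.Perm.sign_swap hne, Units.val_mul, hsg, hIcc, filter_insert,
          if_pos hc, card_insert_of_notMem (by simp), pow_succ]
        simp

theorem exists_perm (E : Finset ℕ) (hE : E ⊆ Ico 1 n) : ∃ κ : Equiv.Perm (Fin n),
    Valid κ ∧ cuts κ = E ∧ (Equiv.Perm.sign κ : ℤ) = (-1) ^ (n - 1 - E.card) := by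
  rcases Nat.eq_zero_or_pos n with rfl | hn
  · refine ⟨1, fun i => i.elim0, ?_, by simp⟩
    rw [show E = ∅ from Finset.subset_empty.1 (by simpa using hE)]
    simp [cuts]
  obtain ⟨κ, -, hv, hiff, hsg⟩ := exists_perm_upto E (n - 1) (by omega : n - 1 < n)
  refine ⟨κ, hv, ?_, ?_⟩
  · ext e
    simp only [cuts, mem_filter, mem_Ico]
    constructor
    · rintro ⟨⟨h1, h2⟩, h3⟩
      by_contra he
      refine h3 ⟨e - 1, by omega⟩ (by simp only; omega) ?_
      rw [(hiff ⟨e - 1, by omega⟩ (by simp only; omega)).2]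
      · simp only; omega
      · simp only; rwa [Nat.sub_add_cancel h1]
    · intro he
      refine ⟨mem_Ico.1 (hE he), fun i hi h' => ?_⟩
      exact (hiff i (by have := (mem_Ico.1 (hE he)).2; omega)).1 (by omega) (hi ▸ he)
  · rw [hsg]
    congr 1
    rw [show Icc 1 (n - 1) = Ico 1 n by ext e; simp only [mem_Icc, mem_Ico]; omega,
      show ((Ico 1 n).filter fun e => e ∉ E) = Ico 1 n \ E by ext e; simp,
      card_sdiff_of_subset hE, Nat.card_Ico]

/-- Reindexing by cut sets. -/
theorem sum_valid [DecidablePred (Valid (n := n))] (Φ : Finset ℕ → ℂ) :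
    ∑ κ ∈ univ.filter (fun κ : Equiv.Perm (Fin n) => Valid κ),
        ((Equiv.Perm.sign κ : ℤ) : ℂ) * Φ (cuts κ) =
      ∑ E ∈ (Ico 1 n).powerset, (-1 : ℂ) ^ (n - 1 - E.card) * Φ E := by
  refine sum_bij (fun κ _ => cuts κ) (fun κ _ => mem_powerset.2 (filter_subset _ _))
    (fun a ha b hb e => eq_of_cuts_eq (mem_filter.1 ha).2 (mem_filter.1 hb).2 e) (fun E hE => ?_)
    (fun κ hκ => ?_)
  · obtain ⟨κ, hv, hc, -⟩ := exists_perm E (mem_powerset.1 hE)
    exact ⟨κ, mem_filter.2 ⟨mem_univ _, hv⟩, hc⟩
  · obtain ⟨τ, hv, hc, hs⟩ := exists_perm (cuts κ) (filter_subset _ _)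
    obtain rfl := eq_of_cuts_eq hv (mem_filter.1 hκ).2 hc
    rw [hs]
    push_cast
    rfl

end CfsgLib.GLn.StValues
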