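import Mathlib.LinearAlgebra.FiniteDimensional.Lemmas
import Mathlib.Data.Complex.Basic
import Mathlib.Algebra.BigOperators.Group.Finset.Basic
import Cfsg.Agent.GLn.StValues.Cuts

/-! Chains of invariant subspaces and their alternating sum. -/

set_option autoImplicit false

namespace CfsgLib.GLn.StValues

open Finset Module

variable {F V : Type*} [Field F] [AddCommGroup V] [Module F V] (φ : V →ₗ[F] V)

/-- Invariance of a subspace. -/
def Inv (W : Submodule F V) : Prop := ∀ v ∈ W, φ v ∈ W

variable {φ}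

theorem inv_bot : Inv φ ⊥ := fun v hv => by
  rw [Submodule.mem_bot] at hv ⊢; rw [hv, map_zero]

theorem inv_top : Inv φ ⊤ := fun _ _ => trivial

theorem Inv.inf {U W : Submodule F V} (hU : Inv φ U) (hW : Inv φ W) : Inv φ (U ⊓ W) :=
  fun v hv => ⟨hU v hv.1, hW v hv.2⟩

theorem Inv.sup {U W : Submodule F V} (hU : Inv φ U) (hW : Inv φ W) : Inv φ (U ⊔ W) := fun v hv => by
  obtain ⟨a, ha, b, hb, rfl⟩ := Submodule.mem_sup.1 hv
  rw [map_add]
  exact Submodule.add_mem_sup (hU a ha) (hW b hb)

variable [Fintype (Submodule F V)] (φ)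

open scoped Classical in
/-- The invariant subspaces strictly between `⊥` and `W`. -/
noncomputable def between (W : Submodule F V) : Finset (Submodule F V) :=
  univ.filter fun U => Inv φ U ∧ ⊥ < U ∧ U < W

open scoped Classical in
/-- The chains of invariant subspaces strictly between `⊥` and `W`. -/
noncomputable def chains (W : Submodule F V) : Finset (Finset (Submodule F V)) :=
  (between φ W).powerset.filter fun C => IsChain (· ≤ ·) (C : Set (Submodule F V))

open scoped Classical in
/-- The alternating sum over chains. -/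
noncomputable def mu (W : Submodule F V) : ℂ :=
  if W = ⊥ then 1 else ∑ C ∈ chains φ W, (-1 : ℂ) ^ (C.card + 1)

variable {φ}

theorem mu_bot : mu φ ⊥ = 1 := by rw [mu, if_pos rfl]

theorem mem_between {W U : Submodule F V} : U ∈ between φ W ↔ Inv φ U ∧ ⊥ < U ∧ U < W := by
  simp [between]

theorem mem_chains {W : Submodule F V} {C : Finset (Submodule F V)} :
    C ∈ chains φ W ↔ (∀ U ∈ C, Inv φ U ∧ ⊥ < U ∧ U < W) ∧
      IsChain (· ≤ ·) (C : Set (Submodule F V)) := by
  simp [chains, subset_iff, mem_between]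

theorem exists_top_of_chain {C : Finset (Submodule F V)}
    (hC : IsChain (· ≤ ·) (C : Set (Submodule F V))) (hne : C.Nonempty) :
    ∃ U ∈ C, ∀ X ∈ C, X ≤ U := by
  obtain ⟨U, hU⟩ := C.exists_maximal hne
  refine ⟨U, hU.prop, fun X hX => ?_⟩
  rcases eq_or_ne X U with rfl | h
  · exact le_rfl
  · rcases hC (mem_coe.2 hX) (mem_coe.2 hU.prop) h with h' | h'
    · exact h'
    · exact hU.le_of_ge hX h'

theorem mu_rec {W : Submodule F V} (hW : W ≠ ⊥) :
    mu φ W = -1 - ∑ U ∈ between φ W, mu φ U := by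
  classical
  have h1 : ∑ U ∈ between φ W, mu φ U =
      ∑ x ∈ (between φ W).sigma (fun U => chains φ U), (-1 : ℂ) ^ (x.2.card + 1) := by
    rw [sum_sigma]
    refine sum_congr rfl fun U hU => ?_
    rw [mu, if_neg (mem_between.1 hU).2.1.ne']
  have h0 : (∅ : Finset (Submodule F V)) ∈ chains φ W := by simp [mem_chains]
  rw [mu, if_neg hW, ← add_sum_erase _ _ h0, h1]
  rw [show ((-1 : ℂ) ^ ((∅ : Finset (Submodule F V)).card + 1)) = -1 by simp, sub_eq_add_neg]
  congr 1
  rw [← sum_neg_distrib]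
  refine (sum_bij (fun x _ => insert x.1 x.2) ?_ ?_ ?_ ?_).symm
  · rintro ⟨U, C⟩ hx
    obtain ⟨hU, hC⟩ := mem_sigma.1 hx
    rw [mem_chains] at hC
    obtain ⟨hi, h0, hlt⟩ := mem_between.1 hU
    refine mem_erase.2 ⟨(insert_nonempty _ _).ne_empty, mem_chains.2 ⟨?_, ?_⟩⟩
    · intro X hX
      rcases mem_insert.1 hX with rfl | hX
      · exact ⟨hi, h0, hlt⟩
      · exact ⟨(hC.1 X hX).1, (hC.1 X hX).2.1, (hC.1 X hX).2.2.trans hlt⟩
    · rw [coe_insert]
      exact hC.2.insert fun X hX _ => Or.inr (hC.1 X (mem_coe.1 hX)).2.2.le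
  · rintro ⟨U, C⟩ hx ⟨U', C'⟩ hx' e
    obtain ⟨-, hC⟩ := mem_sigma.1 hx
    obtain ⟨-, hC'⟩ := mem_sigma.1 hx'
    rw [mem_chains] at hC hC'
    simp only at e
    have hUU : U = U' := by
      by_contra hne
      have a : U ∈ C' := (mem_insert.1 (e ▸ mem_insert_self U C)).resolve_left hne
      have b : U' ∈ C := (mem_insert.1 (e.symm ▸ mem_insert_self U' C')).resolve_left (Ne.symm hne)
      exact lt_asymm (hC'.1 U a).2.2 (hC.1 U' b).2.2
    subst hUU
    have hn : U ∉ C := fun h => lt_irrefl _ (hC.1 U h).2.2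
    have hn' : U ∉ C' := fun h => lt_irrefl _ (hC'.1 U h).2.2
    rw [← erase_insert hn, e, erase_insert hn']
  · intro C hC
    obtain ⟨hne, hC⟩ := mem_erase.1 hC
    rw [mem_chains] at hC
    obtain ⟨U, hU, hmax⟩ := exists_top_of_chain hC.2 (nonempty_iff_ne_empty.2 hne)
    refine ⟨⟨U, C.erase U⟩, mem_sigma.2 ⟨mem_between.2 (hC.1 U hU), mem_chains.2 ⟨?_, ?_⟩⟩,
      insert_erase hU⟩
    · intro X hX
      obtain ⟨h1, h2⟩ := mem_erase.1 hX
      exact ⟨(hC.1 X h2).1, (hC.1 X h2).2.1, lt_of_le_of_ne (hmax X h2) h1⟩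
    · exact hC.2.mono (coe_subset.2 (erase_subset _ _))
  · rintro ⟨U, C⟩ hx
    obtain ⟨-, hC⟩ := mem_sigma.1 hx
    rw [mem_chains] at hC
    simp only
    rw [card_insert_of_notMem fun h => lt_irrefl _ (hC.1 U h).2.2, pow_succ _ (C.card + 1)]
    ring

open scoped Classical in
theorem sum_mu_le {W : Submodule F V} (hW : W ≠ ⊥) (hWi : Inv φ W) :
    ∑ U ∈ univ.filter (fun U => Inv φ U ∧ U ≤ W), mu φ U = 0 := by
  have e : univ.filter (fun U => Inv φ U ∧ U ≤ W) = insert W (insert ⊥ (between φ W)) := by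
    ext U
    simp only [mem_filter, mem_univ, true_and, mem_insert, mem_between]
    constructor
    · rintro ⟨h1, h2⟩
      rcases eq_or_ne U W with h | h
      · exact Or.inl h
      rcases eq_or_ne U ⊥ with h' | h'
      · exact Or.inr (Or.inl h')
      exact Or.inr (Or.inr ⟨h1, bot_lt_iff_ne_bot.2 h', lt_of_le_of_ne h2 h⟩)
    · rintro (rfl | rfl | ⟨h1, -, h3⟩)
      · exact ⟨hWi, le_rfl⟩
      · exact ⟨inv_bot, bot_le⟩
      · exact ⟨h1, h3.le⟩
  rw [e, sum_insert (by simp [hW, mem_between]), sum_insert (by simp [mem_between]), mu_rec hW,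
    mu_bot]
  ring

open scoped Classical in
/-- Weisner's theorem for invariant subspaces. -/
theorem weisner {S : Submodule F V} (hS : S ≠ ⊥) (hSi : Inv φ S) :
    ∀ X : Submodule F V, Inv φ X → S ≤ X →
      ∑ U ∈ univ.filter (fun U => Inv φ U ∧ U ⊔ S = X), mu φ U = 0 := by
  intro X
  induction X using WellFoundedLT.induction with
  | _ X ih =>
    intro hX hSX
    have hX0 : X ≠ ⊥ := fun h => hS (le_bot_iff.1 (h ▸ hSX))
    have key := sum_mu_le (φ := φ) hX0 hX
    rw [← sum_fiberwise_of_maps_to (g := fun U => U ⊔ S)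
      (t := univ.filter fun Y => Inv φ Y ∧ S ≤ Y ∧ Y ≤ X)] at key
    · rw [sum_eq_single_of_mem X (by simp [hX, hSX])] at key
      · rw [filter_filter] at key
        refine Eq.trans (sum_congr ?_ fun _ _ => rfl) key
        refine filter_congr fun U _ => ⟨fun h => ⟨⟨h.1, ?_⟩, h.2⟩, fun h => ⟨h.1.1, h.2⟩⟩
        rw [← h.2]; exact le_sup_left
      · intro Y hY hne
        obtain ⟨hY1, hY2, hY3⟩ := (mem_filter.1 hY).2
        rw [filter_filter]
        refine Eq.trans (sum_congr ?_ fun _ _ => rfl) (ih Y (lt_of_le_of_ne hY3 hne) hY1 hY2)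
        refine filter_congr fun U _ => ⟨fun h => ⟨h.1.1, h.2⟩, fun h => ⟨⟨h.1, ?_⟩, h.2⟩⟩
        exact le_trans (h.2 ▸ le_sup_left) hY3
    · intro U hU
      obtain ⟨h1, h2⟩ := (mem_filter.1 hU).2
      exact mem_filter.2 ⟨mem_univ _, h1.sup hSi, le_sup_right, sup_le h2 hSX⟩

section Flags

variable [FiniteDimensional F V] {n : ℕ}

/-- Invariant flags with prescribed dimensions. -/
def Flags (φ : V →ₗ[F] V) (P : ℕ → ℕ) : Type _ :=
  {W : ℕ → Submodule F V // Monotone W ∧ (∀ k, finrank F (W k) = P k) ∧ ∀ k, Inv φ (W k)}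

open scoped Classical in
theorem card_flags (hn : finrank F V = n) (E : Finset ℕ) (hE : E ⊆ Ico 1 n) :
    Nat.card (Flags φ (cutFloor n E)) =
      ((chains φ ⊤).filter fun C => C.image (fun U : Submodule F V => finrank F U) = E).card := by
  have htop : ∀ W : Flags φ (cutFloor n E), ∀ k, n ≤ k → W.1 k = ⊤ := fun W k hk =>
    Submodule.eq_top_of_finrank_eq (by rw [W.2.2.1, cutFloor_of_ge E hE hk, hn])
  have hfl : ∀ (W : Flags φ (cutFloor n E)) k, W.1 k = W.1 (cutFloor n E k) := by
    intro W k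
    rcases le_or_gt n k with hk | hk
    · rw [cutFloor_of_ge E hE hk, htop W k hk, htop W n le_rfl]
    refine (Submodule.eq_of_le_of_finrank_eq (W.2.1 (cutFloor_le E k)) ?_).symm
    rw [W.2.2.1, W.2.2.1]
    by_cases h0 : cutFloor n E k = 0
    · rw [h0, cutFloor_zero]
    · exact cutFloor_of_mem (cutFloor_mem hk h0)
  rw [← Fintype.card_coe, ← Nat.card_eq_fintype_card]
  refine Nat.card_eq_of_bijective
    (fun W => ⟨E.image W.1, mem_filter.2 ⟨mem_chains.2 ⟨?_, ?_⟩, ?_⟩⟩) ⟨?_, ?_⟩
  · intro U hU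
    obtain ⟨e, he, rfl⟩ := mem_image.1 hU
    have hd : finrank F (W.1 e) = e := by rw [W.2.2.1, cutFloor_of_mem he]
    have he' := mem_Ico.1 (hE he)
    refine ⟨W.2.2.2 e, bot_lt_iff_ne_bot.2 fun h => ?_, lt_top_iff_ne_top.2 fun h => ?_⟩
    · rw [h, finrank_bot] at hd; omega
    · rw [h, finrank_top] at hd; omega
  · rintro a ha b hb -
    obtain ⟨e, -, rfl⟩ := mem_image.1 (mem_coe.1 ha)
    obtain ⟨e', -, rfl⟩ := mem_image.1 (mem_coe.1 hb)
    rcases le_total e e' with h | h
    · exact Or.inl (W.2.1 h)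
    · exact Or.inr (W.2.1 h)
  · rw [image_image]
    refine (image_congr fun e he => ?_).trans image_id
    simp only [Function.comp_apply, id, W.2.2.1]
    exact cutFloor_of_mem he
  · intro W W' e
    have e' : E.image W.1 = E.image W'.1 := congrArg Subtype.val e
    have hEeq : ∀ m ∈ E, W.1 m = W'.1 m := fun m hm => by
      obtain ⟨m', hm', hmm⟩ := mem_image.1 (e' ▸ mem_image_of_mem W.1 hm)
      have := congrArg (fun U : Submodule F V => finrank F U) hmm
      simp only [W.2.2.1, W'.2.2.1, cutFloor_of_mem hm, cutFloor_of_mem hm'] at this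
      rw [← hmm, this]
    refine Subtype.ext (funext fun k => ?_)
    rw [hfl W k, hfl W' k]
    rcases le_or_gt n k with hk | hk
    · rw [cutFloor_of_ge E hE hk, htop W n le_rfl, htop W' n le_rfl]
    by_cases h0 : cutFloor n E k = 0
    · rw [h0, show W.1 0 = ⊥ from Submodule.finrank_eq_zero.1 (by rw [W.2.2.1, cutFloor_zero]),
        show W'.1 0 = ⊥ from Submodule.finrank_eq_zero.1 (by rw [W'.2.2.1, cutFloor_zero])]
    · exact hEeq _ (cutFloor_mem hk h0)
  · rintro ⟨C, hC⟩
    obtain ⟨hC, hdim⟩ := mem_filter.1 hC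
    rw [mem_chains] at hC
    let L : ℕ → Submodule F V := fun k =>
      if n ≤ k then ⊤ else (C.filter fun U : Submodule F V => finrank F U ≤ k).sup id
    have hmem : ∀ k < n, (cutFloor n E k = 0 ∧ L k = ⊥) ∨
        (L k ∈ C ∧ finrank F (L k) = cutFloor n E k) := by
      intro k hk
      have hLk : L k = (C.filter fun U : Submodule F V => finrank F U ≤ k).sup id :=
        if_neg (not_le.2 hk)
      by_cases h0 : cutFloor n E k = 0
      · refine Or.inl ⟨h0, ?_⟩
        rw [hLk]
        rw [filter_eq_empty_iff.2 fun U hU hle => ?_, sup_empty]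
        have hm : finrank F U ∈ E := hdim ▸ mem_image_of_mem (fun U : Submodule F V => finrank F U) hU
        have h1 := (mem_Ico.1 (hE hm)).1
        have := Nat.le_findGreatest (P := fun e => e ∈ E ∨ e = n) hle (Or.inl hm)
        rw [cutFloor] at h0
        omega
      · have hm := cutFloor_mem hk h0
        rw [← hdim] at hm
        obtain ⟨U, hU, hUd⟩ := mem_image.1 hm
        rw [hdim] at hUd
        suffices h : (C.filter fun X : Submodule F V => finrank F X ≤ k).sup id = U by
          have hLU : L k = U := hLk.trans h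
          exact Or.inr ⟨hLU.symm ▸ hU, by rw [hLU, hUd]⟩
        refine le_antisymm (Finset.sup_le fun X hX => ?_)
          (Finset.le_sup (f := id) (mem_filter.2 ⟨hU, hUd ▸ cutFloor_le E k⟩))
        obtain ⟨hX, hXk⟩ := mem_filter.1 hX
        rcases eq_or_ne X U with rfl | hne
        · exact le_rfl
        rcases hC.2 (mem_coe.2 hX) (mem_coe.2 hU) hne with h | h
        · exact h
        · have hm' : finrank F X ∈ E := hdim ▸ mem_image_of_mem (fun U : Submodule F V => finrank F U) hX
          have h1 : finrank F X ≤ finrank F U :=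
            hUd ▸ Nat.le_findGreatest (P := fun e => e ∈ E ∨ e = n) hXk (Or.inl hm')
          exact absurd (Submodule.eq_of_le_of_finrank_le h h1).symm hne
    refine ⟨⟨L, fun a b hab => ?_, fun k => ?_, fun k => ?_⟩, Subtype.ext ?_⟩
    · by_cases hb : n ≤ b
      · simp [L, hb]
      · simp only [L, if_neg hb, if_neg (fun h => hb (le_trans h hab))]
        exact Finset.sup_mono fun U hU => mem_filter.2 ⟨(mem_filter.1 hU).1, (mem_filter.1 hU).2.trans hab⟩
    · rcases le_or_gt n k with hk | hk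
      · rw [cutFloor_of_ge E hE hk, show L k = ⊤ from if_pos hk, finrank_top, hn]
      rcases hmem k hk with ⟨h1, h2⟩ | ⟨-, h⟩
      · rw [h1, h2, finrank_bot]
      · exact h
    · rcases le_or_gt n k with hk | hk
      · simp only [L, if_pos hk]; exact inv_top
      rcases hmem k hk with ⟨-, h⟩ | ⟨h, -⟩
      · rw [h]; exact inv_bot
      · exact (hC.1 _ h).1
    · change E.image L = C
      have hL : ∀ U ∈ C, finrank F U ∈ E ∧ L (finrank F U) = U := fun U hU => by
        have hm : finrank F U ∈ E := hdim ▸ mem_image_of_mem (fun U : Submodule F V => finrank F U) hU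
        refine ⟨hm, ?_⟩
        rcases hmem _ (mem_Ico.1 (hE hm)).2 with ⟨h, -⟩ | ⟨h1, h2⟩
        · rw [cutFloor_of_mem hm] at h
          have := (mem_Ico.1 (hE hm)).1
          omega
        · rw [cutFloor_of_mem hm] at h2
          rcases eq_or_ne (L (finrank F U)) U with h | hne
          · exact h
          rcases hC.2 (mem_coe.2 h1) (mem_coe.2 hU) hne with h | h
          · exact Submodule.eq_of_le_of_finrank_eq h h2
          · exact (Submodule.eq_of_le_of_finrank_eq h h2.symm).symm
      ext U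
      constructor
      · intro hU
        obtain ⟨e, he, rfl⟩ := mem_image.1 hU
        rw [← hdim] at he
        obtain ⟨X, hX, rfl⟩ := mem_image.1 he
        rw [(hL X hX).2]
        exact hX
      · exact fun hU => mem_image.2 ⟨_, hL U hU⟩

open scoped Classical in
theorem sum_flags (hn : finrank F V = n) (h0 : 0 < n) :
    ∑ E ∈ (Ico 1 n).powerset, (-1 : ℂ) ^ (n - 1 - E.card) * (Nat.card (Flags φ (cutFloor n E)) : ℂ) =
      (-1 : ℂ) ^ n * mu φ ⊤ := by
  have htop : (⊤ : Submodule F V) ≠ ⊥ := fun h => by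
    have := congrArg (fun U : Submodule F V => finrank F U) h
    simp only [finrank_top, finrank_bot, hn] at this
    omega
  have hinj : ∀ C ∈ chains φ (⊤ : Submodule F V),
      (C.image fun U : Submodule F V => finrank F U).card = C.card := fun C hC => by
    rw [mem_chains] at hC
    refine card_image_of_injOn fun a ha b hb e => ?_
    by_contra hne
    rcases hC.2 ha hb hne with h | h
    · exact hne (Submodule.eq_of_le_of_finrank_eq h e)
    · exact hne (Submodule.eq_of_le_of_finrank_eq h e.symm).symm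
  have hmap : ∀ C ∈ chains φ (⊤ : Submodule F V),
      C.image (fun U : Submodule F V => finrank F U) ∈ (Ico 1 n).powerset := fun C hC => by
    rw [mem_chains] at hC
    refine mem_powerset.2 fun e he => ?_
    obtain ⟨U, hU, rfl⟩ := mem_image.1 he
    refine mem_Ico.2 ⟨Nat.pos_of_ne_zero fun h => (hC.1 U hU).2.1.ne'
      (Submodule.finrank_eq_zero.1 h), ?_⟩
    rw [← hn]
    exact Submodule.finrank_lt (hC.1 U hU).2.2.ne
  rw [mu, if_neg htop, mul_sum, ← sum_fiberwise_of_maps_to hmap]
  refine sum_congr rfl fun E hE => ?_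
  rw [card_flags hn E (mem_powerset.1 hE), mul_comm, ← nsmul_eq_mul]
  rw [← sum_const]
  refine sum_congr rfl fun C hCf => ?_
  obtain ⟨hC, hdim⟩ := mem_filter.1 hCf
  rw [← hdim]
  have hle : C.card ≤ n - 1 := by
    have := card_le_card (mem_powerset.1 (hmap C hC))
    rwa [hinj C hC, Nat.card_Ico] at this
  rw [hinj C hC, ← pow_add]
  exact neg_one_pow_congr (by
    rw [Nat.even_iff, Nat.even_iff]; omega)

end Flags

end CfsgLib.GLn.StValues
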