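import Cfsg.Prelude.Def_LinearParabolics
import Cfsg.Agent.GLn.Tables
import Cfsg.Agent.GLn.StValues.Chains
import Mathlib.LinearAlgebra.Matrix.GeneralLinearGroup.Defs
import Mathlib.LinearAlgebra.Matrix.ToLin
import Mathlib.LinearAlgebra.Dimension.Constructions

/-! Fixed cosets of a parabolic are invariant flags. -/

set_option autoImplicit false

namespace CfsgLib.GLn.StValues

open Finset Module Matrix
open scoped MatrixGroups

variable {F : Type*} [Field F] {n : ℕ}

/-- The span of the first `e` unit vectors. -/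
def stdW (F : Type*) [Field F] (n e : ℕ) : Submodule F (Fin n → F) where
  carrier := {v | ∀ i : Fin n, e ≤ i.val → v i = 0}
  add_mem' {a b} ha hb i hi := by simp [ha i hi, hb i hi]
  zero_mem' _ _ := rfl
  smul_mem' c a ha i hi := by simp [ha i hi]

theorem mem_stdW {e : ℕ} {v : Fin n → F} : v ∈ stdW F n e ↔ ∀ i : Fin n, e ≤ i.val → v i = 0 :=
  Iff.rfl

theorem finrank_stdW {e : ℕ} (he : e ≤ n) : finrank F (stdW F n e) = e := by
  let E : stdW F n e ≃ₗ[F] (Fin e → F) :=
    { toFun := fun v j => v.1 (Fin.castLE he j)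
      map_add' := fun _ _ => rfl
      map_smul' := fun _ _ => rfl
      invFun := fun u => ⟨fun i => if h : i.val < e then u ⟨i.val, h⟩ else 0, fun i hi => dif_neg (not_lt.2 hi)⟩
      left_inv := fun v => Subtype.ext (funext fun i => by
        by_cases h : i.val < e
        · simp only [dif_pos h]; rfl
        · simp only [dif_neg h]; exact (v.2 i (not_lt.1 h)).symm)
      right_inv := fun u => funext fun j => by simp }
  rw [E.finrank_eq, finrank_fin_fun]

theorem stdW_mono {a b : ℕ} (h : a ≤ b) : stdW F n a ≤ stdW F n b :=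
  fun _ hv i hi => hv i (le_trans h hi)

/-- The linear map of an invertible matrix. -/
abbrev lin (g : GL (Fin n) F) : (Fin n → F) →ₗ[F] (Fin n → F) :=
  Matrix.mulVecLin (g : Matrix (Fin n) (Fin n) F)

theorem lin_mul (a b : GL (Fin n) F) : lin (a * b) = lin a ∘ₗ lin b :=
  Matrix.mulVecLin_mul _ _

theorem lin_one : lin (1 : GL (Fin n) F) = LinearMap.id := Matrix.mulVecLin_one

theorem lin_injective (g : GL (Fin n) F) : Function.Injective (lin g) :=
  Function.LeftInverse.injective (g := lin g⁻¹) fun v => by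
    rw [← LinearMap.comp_apply, ← lin_mul, inv_mul_cancel, lin_one, LinearMap.id_apply]

theorem finrank_map_lin (g : GL (Fin n) F) (W : Submodule F (Fin n → F)) :
    finrank F (W.map (lin g)) = finrank F W :=
  (Submodule.equivMapOfInjective _ (lin_injective g) W).finrank_eq.symm

variable {c : Fin n → ℕ}

theorem mem_parabolic_iff (hc : ∑ i, c i = n) (g : GL (Fin n) F) :
    g ∈ Cfsg.parabolicGL n F c ↔
      ∀ k, (stdW F n (prefixSum c k)).map (lin g) ≤ stdW F n (prefixSum c k) := by
  change ((g : Matrix (Fin n) (Fin n) F).BlockTriangular (Cfsg.compLabel c)) ↔ _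
  constructor
  · intro h k
    rintro _ ⟨v, hv, rfl⟩ i hi
    show ∑ j, (g : Matrix (Fin n) (Fin n) F) i j * v j = 0
    refine Finset.sum_eq_zero fun j _ => ?_
    by_cases hj : prefixSum c k ≤ j.val
    · simp [hv j hj]
    rw [h (i := i) (j := j) ?_, zero_mul]
    have ha := (compLabel_eq_iff (c := c) j (blockOf hc j)).1 rfl
    have hb := (compLabel_eq_iff (c := c) i (blockOf hc i)).1 rfl
    have h1 : (blockOf hc j).val < k := by
      by_contra h'
      have := prefixSum_mono c (not_lt.1 h'); omega
    have h2 : k ≤ (blockOf hc i).val := by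
      by_contra h'
      have := prefixSum_mono c (show (blockOf hc i).val + 1 ≤ k by omega); omega
    exact lt_of_lt_of_le h1 h2
  · intro h i j hij
    have ha := (compLabel_eq_iff (c := c) j (blockOf hc j)).1 rfl
    have hb := (compLabel_eq_iff (c := c) i (blockOf hc i)).1 rfl
    have hlt : (blockOf hc j).val < (blockOf hc i).val := hij
    have hle : prefixSum c ((blockOf hc j).val + 1) ≤ i.val :=
      (prefixSum_mono c hlt).trans hb.1
    have hm : (Pi.single j (1 : F) : Fin n → F) ∈ stdW F n (prefixSum c ((blockOf hc j).val + 1)) :=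
      fun l hl => Pi.single_eq_of_ne (fun e => by rw [e] at hl; omega) _
    have h' : ((g : Matrix (Fin n) (Fin n) F) *ᵥ Pi.single j 1) i = 0 := h _ ⟨_, hm, rfl⟩ i hle
    rw [Matrix.mulVec_single_one] at h'
    exact h'

/-- The flag of a matrix. -/
def flagOf (c : Fin n → ℕ) (h : GL (Fin n) F) (k : ℕ) : Submodule F (Fin n → F) :=
  (stdW F n (prefixSum c k)).map (lin h)

theorem finrank_flagOf (hc : ∑ i, c i = n) (h : GL (Fin n) F) (k : ℕ) :
    finrank F (flagOf c h k) = prefixSum c k := by
  rw [flagOf, finrank_map_lin, finrank_stdW (prefixSum_le hc k)]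

theorem map_le_flagOf (hc : ∑ i, c i = n) (h g : GL (Fin n) F) :
    h⁻¹ * g * h ∈ Cfsg.parabolicGL n F c ↔ ∀ k, (flagOf c h k).map (lin g) ≤ flagOf c h k := by
  rw [mem_parabolic_iff hc]
  refine forall_congr' fun k => ?_
  rw [← Submodule.map_le_map_iff_of_injective (lin_injective h)]
  rw [← Submodule.map_comp, ← lin_mul, flagOf, ← Submodule.map_comp, ← lin_mul]
  rw [show h * (h⁻¹ * g * h) = g * h by group]

theorem exists_flagOf (hc : ∑ i, c i = n) (W : ℕ → Submodule F (Fin n → F)) (hmono : Monotone W)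
    (hdim : ∀ k, finrank F (W k) = prefixSum c k) : ∃ h : GL (Fin n) F, ∀ k, flagOf c h k = W k := by
  classical
  have step : ∀ m ≤ n, ∃ v : Fin m → (Fin n → F), LinearIndependent F v ∧
      ∀ i : Fin m, ∀ k, i.val < prefixSum c k → v i ∈ W k := by
    intro m
    induction m with
    | zero => exact fun _ => ⟨Fin.elim0, linearIndependent_empty_type, fun i => i.elim0⟩
    | succ m ih =>
      intro hm
      obtain ⟨v, hv, hvW⟩ := ih (by omega)
      have hex : ∃ k, m < prefixSum c k := ⟨n, by rw [prefixSum_n hc]; omega⟩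
      obtain ⟨x, hx, hxs⟩ : ∃ x ∈ W (Nat.find hex), x ∉ Submodule.span F (Set.range v) := by
        by_contra hno
        push Not at hno
        have := Submodule.finrank_mono (show W (Nat.find hex) ≤ Submodule.span F (Set.range v) from hno)
        rw [hdim, finrank_span_eq_card hv, Fintype.card_fin] at this
        have := Nat.find_spec hex
        omega
      refine ⟨Fin.snoc v x, linearIndependent_finSnoc.2 ⟨hv, hxs⟩, fun i k hk => ?_⟩
      induction i using Fin.lastCases with
      | last => rw [Fin.snoc_last]; exact hmono (Nat.find_min' hex (by simpa using hk)) hx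
      | cast j => rw [Fin.snoc_castSucc]; exact hvW j k (by simpa using hk)
  obtain ⟨v, hv, hvW⟩ := step n le_rfl
  set M : Matrix (Fin n) (Fin n) F := Matrix.of fun i j => v j i
  have hM : IsUnit M := Matrix.linearIndependent_cols_iff_isUnit.1 hv
  refine ⟨hM.unit, fun k => Submodule.eq_of_le_of_finrank_eq ?_ (by rw [finrank_flagOf hc, hdim])⟩
  rintro _ ⟨w, hw, rfl⟩
  have : lin hM.unit w = ∑ j, w j • v j := by
    funext i
    rw [Finset.sum_apply]
    show ∑ j, v j i * w j = ∑ j, w j * v j i
    exact Finset.sum_congr rfl fun j _ => mul_comm _ _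
  rw [this]
  refine Submodule.sum_mem _ fun j _ => ?_
  by_cases hj : prefixSum c k ≤ j.val
  · rw [hw j hj, zero_smul]; exact Submodule.zero_mem _
  · exact Submodule.smul_mem _ _ (hvW j k (not_le.1 hj))

theorem fixedPointCharacter_eq_flags (hc : ∑ i, c i = n) (g : GL (Fin n) F) :
    Cfsg.fixedPointCharacter (Cfsg.parabolicGL n F c) g =
      (Nat.card (Flags (lin g) (prefixSum c)) : ℂ) := by
  rw [Cfsg.fixedPointCharacter]
  congr 1
  set P := Cfsg.parabolicGL n F c
  have hfix : ∀ x : GL (Fin n) F ⧸ P, x ∈ MulAction.fixedBy (GL (Fin n) F ⧸ P) g ↔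
      x.out⁻¹ * g * x.out ∈ P := by
    intro x
    conv_lhs => rw [← QuotientGroup.out_eq' x]
    rw [MulAction.mem_fixedBy, MulAction.Quotient.smul_mk, eq_comm, QuotientGroup.eq, smul_eq_mul,
      mul_assoc]
  refine Nat.card_eq_of_bijective (fun x => ⟨flagOf c x.1.out,
    fun a b hab => Submodule.map_mono (stdW_mono (prefixSum_mono c hab)), finrank_flagOf hc _,
    fun k v hv => (map_le_flagOf hc x.1.out g).1 ((hfix x.1).1 x.2) k ⟨v, hv, rfl⟩⟩) ⟨?_, ?_⟩
  · intro x y e
    have e' : flagOf c x.1.out = flagOf c y.1.out := congrArg Subtype.val e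
    refine Subtype.ext ?_
    rw [← QuotientGroup.out_eq' x.1, ← QuotientGroup.out_eq' y.1, QuotientGroup.eq,
      mem_parabolic_iff hc]
    intro k
    rw [← Submodule.map_le_map_iff_of_injective (lin_injective x.1.out), ← Submodule.map_comp,
      ← lin_mul, mul_inv_cancel_left]
    exact (congrFun e' k).symm.le
  · rintro ⟨W, hm, hd, hi⟩
    obtain ⟨h, hh⟩ := exists_flagOf hc W hm hd
    set x : GL (Fin n) F ⧸ P := QuotientGroup.mk h
    have hk : ∀ k, flagOf c x.out k = W k := by
      intro k
      have hp : h⁻¹ * x.out ∈ P := QuotientGroup.eq.1 (QuotientGroup.out_eq' x).symm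
      refine Submodule.eq_of_le_of_finrank_eq ?_ (by rw [finrank_flagOf hc, hd])
      rw [← hh k, flagOf, flagOf, show x.out = h * (h⁻¹ * x.out) by group, lin_mul, Submodule.map_comp]
      exact Submodule.map_mono ((mem_parabolic_iff hc _).1 hp k)
    refine ⟨⟨x, (hfix x).2 ((map_le_flagOf hc x.out g).2 fun k => ?_)⟩, Subtype.ext (funext hk)⟩
    rw [hk k]
    exact Submodule.map_le_iff_le_comap.2 (hi k)

end CfsgLib.GLn.StValues
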