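import Mathlib.LinearAlgebra.Semisimple
import Mathlib.LinearAlgebra.Charpoly.Basic
import Mathlib.LinearAlgebra.Charpoly.ToMatrix
import Mathlib.RingTheory.Polynomial.UniqueFactorization
import Mathlib.RingTheory.PrincipalIdealDomain
import Mathlib.FieldTheory.Minpoly.Field
import Cfsg.Agent.GLn.StValues.Chains

/-! The alternating chain sum of a semisimple map. -/

set_option autoImplicit false

namespace CfsgLib.GLn.StValues

open Finset Module Polynomial UniqueFactorizationMonoid

variable {F V : Type*} [Field F] [AddCommGroup V] [Module F V] [FiniteDimensional F V]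
  {φ : V →ₗ[F] V}

/-- The restriction. -/
def res {W : Submodule F V} (hW : Inv φ W) : W →ₗ[F] W := φ.restrict hW

theorem res_coe {W : Submodule F V} (hW : Inv φ W) (w : W) : (res hW w : V) = φ w := rfl

theorem Inv.of_commute {W W' : Submodule F V} {hW : Inv φ W} {hW' : Inv φ W'} {f : W →ₗ[F] W'}
    (hf : f ∘ₗ res hW = res hW' ∘ₗ f) :
    Inv φ ((LinearMap.ker f).map W.subtype) ∧ Inv φ ((LinearMap.range f).map W'.subtype) := by
  have hc : ∀ w, f (res hW w) = res hW' (f w) := fun w => LinearMap.congr_fun hf w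
  constructor
  · rintro _ ⟨w, hw, rfl⟩
    exact ⟨res hW w, LinearMap.mem_ker.2 (by rw [hc, LinearMap.mem_ker.1 hw, map_zero]), rfl⟩
  · rintro _ ⟨_, ⟨w, rfl⟩, rfl⟩
    exact ⟨res hW' (f w), ⟨res hW w, hc w⟩, rfl⟩

/-- The characteristic polynomial on an invariant subspace. -/
noncomputable def chi {W : Submodule F V} (hW : Inv φ W) : F[X] := (res hW).charpoly

/-- A minimal nonzero invariant subspace. -/
def IsMin (φ : V →ₗ[F] V) (S : Submodule F V) : Prop :=
  S ≠ ⊥ ∧ ∀ U, Inv φ U → U ≤ S → U = ⊥ ∨ U = S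

theorem exists_isMin {W : Submodule F V} (hW : Inv φ W) (h0 : W ≠ ⊥) :
    ∃ S, Inv φ S ∧ S ≤ W ∧ IsMin φ S := by
  classical
  have hex : ∃ d, ∃ U, Inv φ U ∧ U ≤ W ∧ U ≠ ⊥ ∧ finrank F U = d := ⟨_, W, hW, le_rfl, h0, rfl⟩
  obtain ⟨S, hS, hSW, hS0, hd⟩ := Nat.find_spec hex
  refine ⟨S, hS, hSW, hS0, fun U hU hUS => or_iff_not_imp_left.2 fun hU0 => ?_⟩
  exact Submodule.eq_of_le_of_finrank_le hUS
    (hd.trans_le (Nat.find_min' hex ⟨U, hU, hUS.trans hSW, hU0, rfl⟩))

theorem IsMin.sub_top {S : Submodule F V} (h : IsMin φ S) {U : Submodule F S}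
    (hU : Inv φ (U.map S.subtype)) : U = ⊥ ∨ U = ⊤ := by
  rcases h.2 _ hU (Submodule.map_subtype_le S U) with e | e
  · exact Or.inl (Submodule.map_injective_of_injective S.subtype_injective (e.trans (Submodule.map_bot _).symm))
  · exact Or.inr (Submodule.map_injective_of_injective S.subtype_injective
      (e.trans (Submodule.map_subtype_top S).symm))

variable {S : Submodule F V} {hS : Inv φ S} [DecidableEq F]

theorem chi_ne_zero {W : Submodule F V} {hW : Inv φ W} : chi hW ≠ 0 :=
  (LinearMap.charpoly_monic _).ne_zero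

theorem commute_aeval (P : F[X]) : aeval (res hS) P ∘ₗ res hS = res hS ∘ₗ aeval (res hS) P := by
  have h : aeval (res hS) (P * X) = aeval (res hS) (X * P) := by rw [mul_comm]
  rwa [map_mul, map_mul, aeval_X] at h

theorem IsMin.aeval_dichotomy (h : IsMin φ S) (P : F[X]) {v : S} (hv : v ≠ 0)
    (hPv : aeval (res hS) P v = 0) : aeval (res hS) P = 0 := by
  rcases h.sub_top (Inv.of_commute (f := aeval (res hS) P) (hW := hS) (hW' := hS)
    (commute_aeval P)).1 with e | e
  · exact absurd ((Submodule.mem_bot F).1 (e ▸ LinearMap.mem_ker.2 hPv)) hv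
  · exact LinearMap.ker_eq_top.1 e

theorem IsMin.exists_ne (h : IsMin φ S) : ∃ v : S, v ≠ 0 := by
  obtain ⟨x, hx, hx0⟩ := Submodule.exists_mem_ne_zero_of_ne_bot h.1
  exact ⟨⟨x, hx⟩, fun e => hx0 (congrArg Subtype.val e)⟩

theorem IsMin.orbit_surjective (h : IsMin φ S) {v : S} (hv : v ≠ 0) (x : S) :
    ∃ Q : F[X], Q.natDegree ≤ (minpoly F (res hS)).natDegree - 1 ∧ aeval (res hS) Q v = x := by
  let L : F[X] →ₗ[F] S := (LinearMap.applyₗ v) ∘ₗ (aeval (res hS)).toLinearMap
  have hL : ∀ Q, L Q = aeval (res hS) Q v := fun _ => rfl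
  have hinv : Inv φ ((LinearMap.range L).map S.subtype) := by
    rintro _ ⟨_, ⟨Q, rfl⟩, rfl⟩
    refine ⟨L (X * Q), ⟨_, rfl⟩, ?_⟩
    rw [hL, map_mul, aeval_X]
    rfl
  have ht : LinearMap.range L = ⊤ := (h.sub_top hinv).resolve_left fun e => hv <| by
    have : L 1 ∈ LinearMap.range L := ⟨1, rfl⟩
    rw [e, Submodule.mem_bot, hL, map_one] at this
    exact this
  obtain ⟨Q, hQ⟩ : x ∈ LinearMap.range L := ht ▸ Submodule.mem_top
  have hmon : (minpoly F (res hS)).Monic := minpoly.monic (LinearMap.isIntegral _)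
  refine ⟨Q %ₘ minpoly F (res hS), ?_, ?_⟩
  · have hne : minpoly F (res hS) ≠ 1 := fun e => hv <| by
      have := LinearMap.congr_fun (minpoly.aeval F (res hS)) v
      rw [e, map_one, Module.End.one_apply, LinearMap.zero_apply] at this
      exact this
    have := natDegree_modByMonic_lt Q hmon hne
    omega
  · rw [← hQ, hL, modByMonic_eq_sub_mul_div, map_sub, map_mul, minpoly.aeval, zero_mul, sub_zero]

theorem IsMin.chi_eq (h : IsMin φ S) : chi hS = minpoly F (res hS) ∧ Irreducible (chi hS) := by
  obtain ⟨v, hv⟩ := h.exists_ne (φ := φ)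
  have hmon : (minpoly F (res hS)).Monic := minpoly.monic (LinearMap.isIntegral _)
  have hdim : finrank F S ≤ (minpoly F (res hS)).natDegree := by
    have hpos : 0 < (minpoly F (res hS)).natDegree := by
      haveI : Nontrivial S := ⟨v, 0, hv⟩
      exact minpoly.natDegree_pos (LinearMap.isIntegral _)
    let L : (Fin (minpoly F (res hS)).natDegree → F) →ₗ[F] S :=
      Fintype.linearCombination F fun i => ((res hS) ^ i.val) v
    have hL : Function.Surjective L := fun x => by
      obtain ⟨Q, hQ, rfl⟩ := h.orbit_surjective (hS := hS) hv x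
      refine ⟨fun i => Q.coeff i, ?_⟩
      rw [aeval_eq_sum_range' (n := (minpoly F (res hS)).natDegree) (by omega), LinearMap.sum_apply,
        Finset.sum_range]
      rfl
    simpa using LinearMap.finrank_le_finrank_of_surjective (f := L) hL
  have heq : chi hS = minpoly F (res hS) :=
    (eq_of_monic_of_dvd_of_natDegree_le hmon ((res hS).charpoly_monic)
      (LinearMap.minpoly_dvd_charpoly (res hS))
      (by rw [LinearMap.charpoly_natDegree]; exact hdim)).symm ▸ rfl
  refine ⟨heq, ?_⟩
  rw [heq]
  refine irreducible_of_monic hmon (fun e => hv ?_) |>.2 fun a b ha hb hab => ?_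
  · have := LinearMap.congr_fun (minpoly.aeval F (res hS)) v
    rw [e, map_one, Module.End.one_apply, LinearMap.zero_apply] at this
    exact this
  · have h0 : aeval (res hS) a (aeval (res hS) b v) = 0 := by
      rw [← Module.End.mul_apply, ← map_mul, hab, minpoly.aeval, LinearMap.zero_apply]
    have key : ∀ P : F[X], P.Monic → aeval (res hS) P = 0 →
        (minpoly F (res hS)).natDegree ≤ P.natDegree :=
      fun P hP h1 => natDegree_le_of_dvd (minpoly.dvd F _ h1) hP.ne_zero
    have hdeg : (minpoly F (res hS)).natDegree = a.natDegree + b.natDegree := by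
      rw [← hab, ha.natDegree_mul hb]
    by_cases hbv : aeval (res hS) b v = 0
    · have := key b hb (h.aeval_dichotomy b hv hbv)
      exact Or.inl (ha.natDegree_eq_zero.1 (by omega))
    · have := key a ha (h.aeval_dichotomy a hbv h0)
      exact Or.inr (hb.natDegree_eq_zero.1 (by omega))

theorem IsMin.natDegree_chi : (chi hS).natDegree = finrank F S := LinearMap.charpoly_natDegree _

theorem IsMin.factors (h : IsMin φ S) : normalizedFactors (chi hS) = {chi hS} := by
  rw [normalizedFactors_irreducible h.chi_eq.2,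
    show normalize (chi hS) = chi hS from (LinearMap.charpoly_monic (res hS)).normalize_eq_self]

/-- Commuting maps between invariant subspaces. -/
abbrev homs {U T : Submodule F V} (hU : Inv φ U) (hT : Inv φ T) :=
  {f : U →ₗ[F] T // f ∘ₗ res hU = res hT ∘ₗ f}

theorem card_homs_min [Fintype F] {T : Submodule F V} {hT : Inv φ T} (h : IsMin φ S) (h' : IsMin φ T) :
    Nat.card (homs hS hT) = Fintype.card F ^
      ((chi hT).natDegree * (normalizedFactors (chi hS)).count (chi hT)) := by
  classical
  obtain ⟨v, hv⟩ := h.exists_ne (φ := φ)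
  rw [h.factors, Multiset.count_singleton]
  split_ifs with hc
  · rw [mul_one, IsMin.natDegree_chi, ← Nat.card_eq_fintype_card, ← Module.natCard_eq_pow_finrank]
    refine Nat.card_eq_of_bijective (fun f => f.1 v) ⟨fun f g e => ?_, fun w => ?_⟩
    · have e0 : (f.1 - g.1) ∘ₗ res hS = res hT ∘ₗ (f.1 - g.1) := by
        rw [LinearMap.sub_comp, LinearMap.comp_sub, f.2, g.2]
      rcases h.sub_top (Inv.of_commute e0).1 with hk | hk
      · refine absurd ((Submodule.mem_bot F).1 (hk ▸ LinearMap.mem_ker.2 ?_)) hv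
        rw [LinearMap.sub_apply, sub_eq_zero]; exact e
      · exact Subtype.ext (sub_eq_zero.1 (LinearMap.ker_eq_top.1 hk))
    · have wd : ∀ Q : F[X], aeval (res hS) Q v = 0 → aeval (res hT) Q w = 0 := fun Q hQ => by
        have hd := minpoly.dvd F _ (h.aeval_dichotomy Q hv hQ)
        rw [← h.chi_eq.1, ← hc] at hd
        obtain ⟨R, rfl⟩ := hd
        rw [mul_comm, map_mul, Module.End.mul_apply,
          show aeval (res hT) (chi hT) = 0 from LinearMap.aeval_self_charpoly _,
          LinearMap.zero_apply, map_zero]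
      choose Q hQ using fun x => (h.orbit_surjective (hS := hS) hv x).imp fun _ h => h.2
      have wd' : ∀ P R : F[X], aeval (res hS) P v = aeval (res hS) R v →
          aeval (res hT) P w = aeval (res hT) R w := fun P R e => by
        have := wd (P - R) (by rw [map_sub, LinearMap.sub_apply, e, sub_self])
        rwa [map_sub, LinearMap.sub_apply, sub_eq_zero] at this
      let g : S →ₗ[F] T :=
        { toFun := fun x => aeval (res hT) (Q x) w
          map_add' := fun x y => by
            rw [← LinearMap.add_apply, ← map_add]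
            exact wd' _ _ (by rw [map_add, LinearMap.add_apply, hQ, hQ, hQ])
          map_smul' := fun c x => by
            rw [RingHom.id_apply, ← LinearMap.smul_apply, ← map_smul]
            exact wd' _ _ (by rw [map_smul, LinearMap.smul_apply, hQ, hQ]) }
      refine ⟨⟨g, LinearMap.ext fun x => ?_⟩, ?_⟩
      · show aeval (res hT) (Q (res hS x)) w = res hT (aeval (res hT) (Q x) w)
        rw [wd' (Q (res hS x)) (X * Q x) (by
          rw [hQ, map_mul, aeval_X, Module.End.mul_apply, hQ]), map_mul, aeval_X, Module.End.mul_apply]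
      · show aeval (res hT) (Q v) w = w
        rw [wd' (Q v) 1 (by rw [hQ, map_one, Module.End.one_apply]), map_one, Module.End.one_apply]
  · rw [mul_zero, pow_zero, Nat.card_eq_one_iff_unique]
    refine ⟨⟨fun f g => ?_⟩, ⟨⟨0, by rw [LinearMap.zero_comp, LinearMap.comp_zero]⟩⟩⟩
    suffices h0 : ∀ f : homs hS hT, f.1 = 0 from Subtype.ext ((h0 f).trans (h0 g).symm)
    intro f
    by_contra hf
    have hk : LinearMap.ker f.1 = ⊥ := (h.sub_top (Inv.of_commute f.2).1).resolve_right
      fun e => hf (LinearMap.ker_eq_top.1 e)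
    have hr : LinearMap.range f.1 = ⊤ := (h'.sub_top (Inv.of_commute f.2).2).resolve_left
      fun e => hf (LinearMap.range_eq_bot.1 e)
    let e := LinearEquiv.ofBijective f.1 ⟨LinearMap.ker_eq_bot.1 hk, LinearMap.range_eq_top.1 hr⟩
    have : res hT = e.conj (res hS) := by
      refine LinearMap.ext fun y => ?_
      obtain ⟨x, rfl⟩ := e.surjective y
      rw [LinearEquiv.conj_apply_apply, LinearEquiv.symm_apply_apply]
      exact (LinearMap.congr_fun f.2 x).symm
    exact hc (by rw [chi, this, LinearEquiv.charpoly_conj]; rfl)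

section Split

variable {U W : Submodule F V} {hU : Inv φ U} {hW : Inv φ W}

theorem exists_equiv (hsup : S ⊔ U = W) (hinf : S ⊓ U = ⊥) :
    ∃ e : (S × U) ≃ₗ[F] W, ∀ x, (e x : V) = x.1 + x.2 := by
  refine ⟨LinearEquiv.ofBijective ((Submodule.inclusion (hsup ▸ le_sup_left)).coprod
    (Submodule.inclusion (hsup ▸ le_sup_right))) ⟨?_, ?_⟩, fun x => ?_⟩
  · rw [← LinearMap.ker_eq_bot, LinearMap.ker_eq_bot']
    rintro ⟨a, b⟩ h
    have h' : (a : V) + b = 0 := congrArg Subtype.val h
    have ha : (a : V) ∈ S ⊓ U := ⟨a.2, by rw [eq_neg_of_add_eq_zero_left h']; exact U.neg_mem b.2⟩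
    rw [hinf, Submodule.mem_bot] at ha
    rw [ha, zero_add] at h'
    exact Prod.ext (Subtype.ext ha) (Subtype.ext h')
  · intro w
    obtain ⟨a, ha, b, hb, hab⟩ := Submodule.mem_sup.1 (hsup ▸ w.2 : (w : V) ∈ S ⊔ U)
    exact ⟨(⟨a, ha⟩, ⟨b, hb⟩), Subtype.ext hab⟩
  · rfl

theorem chi_mul (hsup : S ⊔ U = W) (hinf : S ⊓ U = ⊥) : chi hW = chi hS * chi hU := by
  obtain ⟨e, he⟩ := exists_equiv hsup hinf
  have : res hW = e.conj ((res hS).prodMap (res hU)) := by
    refine LinearMap.ext fun y => ?_
    obtain ⟨x, rfl⟩ := e.surjective y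
    rw [LinearEquiv.conj_apply_apply, LinearEquiv.symm_apply_apply]
    apply Subtype.ext
    rw [res_coe, he, map_add, he]
    rfl
  rw [chi, this, LinearEquiv.charpoly_conj, LinearMap.charpoly_prodMap]
  rfl

theorem card_homs_split {T : Submodule F V} {hT : Inv φ T} (hsup : S ⊔ U = W) (hinf : S ⊓ U = ⊥) :
    Nat.card (homs hW hT) = Nat.card (homs hS hT) * Nat.card (homs hU hT) := by
  obtain ⟨e, he⟩ := exists_equiv hsup hinf
  have hres : ∀ x : S × U, res hW (e x) = e (res hS x.1, res hU x.2) := fun x => Subtype.ext (by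
    rw [res_coe, he, he, map_add]; rfl)
  rw [← Nat.card_prod]
  refine Nat.card_eq_of_bijective (fun f =>
    (⟨f.1 ∘ₗ e.toLinearMap ∘ₗ LinearMap.inl F S U, LinearMap.ext fun x => ?_⟩,
      ⟨f.1 ∘ₗ e.toLinearMap ∘ₗ LinearMap.inr F S U, LinearMap.ext fun x => ?_⟩)) ⟨?_, ?_⟩
  · have h2 := hres (x, 0)
    rw [map_zero] at h2
    show f.1 (e (res hS x, 0)) = res hT (f.1 (e (x, 0)))
    rw [← h2]
    exact LinearMap.congr_fun f.2 _
  · have h2 := hres (0, x)
    rw [map_zero] at h2
    show f.1 (e (0, res hU x)) = res hT (f.1 (e (0, x)))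
    rw [← h2]
    exact LinearMap.congr_fun f.2 _
  · intro f g h
    have h1 := congrArg (fun p => p.1.1) h
    have h2 := congrArg (fun p => p.2.1) h
    refine Subtype.ext (LinearMap.ext fun y => ?_)
    obtain ⟨⟨a, b⟩, rfl⟩ := e.surjective y
    rw [show (a, b) = (a, (0 : U)) + ((0 : S), b) by simp, map_add, map_add, map_add]
    exact congrArg₂ (· + ·) (LinearMap.congr_fun h1 a) (LinearMap.congr_fun h2 b)
  · rintro ⟨a, b⟩
    refine ⟨⟨(a.1.coprod b.1) ∘ₗ e.symm.toLinearMap, LinearMap.ext fun y => ?_⟩, ?_⟩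
    · obtain ⟨x, rfl⟩ := e.surjective y
      simp only [LinearMap.comp_apply, LinearEquiv.coe_coe, hres, LinearEquiv.symm_apply_apply,
        LinearMap.coprod_apply, map_add]
      exact congrArg₂ (· + ·) (LinearMap.congr_fun a.2 x.1) (LinearMap.congr_fun b.2 x.2)
    · refine Prod.ext (Subtype.ext (LinearMap.ext fun x => ?_)) (Subtype.ext (LinearMap.ext fun x => ?_)) <;>
        simp

end Split

/-- Every invariant subspace has an invariant complement. -/
def Complemented (φ : V →ₗ[F] V) : Prop :=
  ∀ W, Inv φ W → ∃ U, Inv φ U ∧ IsCompl W U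

theorem Complemented.split (hc : Complemented φ) {W S : Submodule F V} (hW : Inv φ W) (hS : Inv φ S)
    (hSW : S ≤ W) : ∃ U, Inv φ U ∧ U ≤ W ∧ S ⊔ U = W ∧ S ⊓ U = ⊥ := by
  obtain ⟨Z, hZ, hcz⟩ := hc S hS
  refine ⟨Z ⊓ W, hZ.inf hW, inf_le_right, ?_, ?_⟩
  · rw [← sup_inf_assoc_of_le Z hSW, hcz.sup_eq_top, top_inf_eq]
  · rw [← inf_assoc, hcz.inf_eq_bot, bot_inf_eq]

theorem split_finrank_lt {W S U : Submodule F V} (h0 : S ≠ ⊥) (hsup : S ⊔ U = W) (hinf : S ⊓ U = ⊥) :
    finrank F U < finrank F W := by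
  have := Submodule.finrank_sup_add_finrank_inf_eq S U
  rw [hsup, hinf, finrank_bot] at this
  have := Submodule.one_le_finrank_iff.2 h0
  omega

variable [Fintype F]

theorem card_homs (hc : Complemented φ) {T : Submodule F V} {hT : Inv φ T} (h' : IsMin φ T) :
    ∀ (W : Submodule F V) (hW : Inv φ W), Nat.card (homs hW hT) =
      Fintype.card F ^ ((chi hT).natDegree * (normalizedFactors (chi hW)).count (chi hT)) := by
  classical
  suffices ∀ d, ∀ (W : Submodule F V) (hW : Inv φ W), finrank F W = d → Nat.card (homs hW hT) =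
      Fintype.card F ^ ((chi hT).natDegree * (normalizedFactors (chi hW)).count (chi hT)) from
    fun W hW => this _ W hW rfl
  intro d
  induction d using Nat.strong_induction_on with
  | _ d ih =>
    intro W hW hd
    by_cases h0 : W = ⊥
    · subst h0
      have hchi : chi hW = 1 := by
        have h1 := LinearMap.charpoly_natDegree (res hW)
        rw [finrank_bot] at h1
        exact (LinearMap.charpoly_monic (res hW)).natDegree_eq_zero.1 h1
      rw [hchi, normalizedFactors_one, Multiset.count_zero, mul_zero, pow_zero,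
        Nat.card_eq_one_iff_unique]
      exact ⟨⟨fun f g => Subtype.ext (LinearMap.ext fun x => by
        rw [show x = 0 from Subsingleton.elim _ _, map_zero, map_zero])⟩,
        ⟨⟨0, by rw [LinearMap.zero_comp, LinearMap.comp_zero]⟩⟩⟩
    obtain ⟨S, hS, hSW, hmin⟩ := exists_isMin hW h0
    obtain ⟨U, hU, -, hsup, hinf⟩ := hc.split hW hS hSW
    rw [card_homs_split (hS := hS) (hU := hU) hsup hinf, card_homs_min hmin h',
      ih _ (hd ▸ split_finrank_lt hmin.1 hsup hinf) U hU rfl,
      chi_mul (hS := hS) (hU := hU) hsup hinf,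
      normalizedFactors_mul chi_ne_zero chi_ne_zero,
      Multiset.count_add, mul_add, pow_add]

/-- The value attached to a multiset of factors. -/
noncomputable def val (q : ℂ) (N : Multiset F[X]) : ℂ :=
  ∏ f ∈ N.toFinset, (-1 : ℂ) ^ N.count f * q ^ (f.natDegree * (N.count f).choose 2)

omit [Fintype F] in
theorem val_cons (q : ℂ) (N : Multiset F[X]) (f : F[X]) :
    val q (f ::ₘ N) = -(q ^ (f.natDegree * N.count f)) * val q N := by
  classical
  have h1 : ∀ (M : Multiset F[X]) (s : Finset F[X]), M.toFinset ⊆ s → val q M =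
      ∏ g ∈ s, (-1 : ℂ) ^ M.count g * q ^ (g.natDegree * (M.count g).choose 2) := fun M s hs => by
    rw [val]
    refine Finset.prod_subset hs ?_
    intro g _ hg
    rw [Multiset.count_eq_zero.2 (by simpa using hg)]
    simp
  rw [h1 N (insert f N.toFinset) (Finset.subset_insert _ _),
    h1 (f ::ₘ N) (insert f N.toFinset) (by intro g; simp),
    ← Finset.mul_prod_erase _ _ (Finset.mem_insert_self f N.toFinset),
    ← Finset.mul_prod_erase _ _ (Finset.mem_insert_self f N.toFinset)]
  rw [Finset.prod_congr rfl fun g hg => by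
    rw [Multiset.count_cons_of_ne (Finset.mem_erase.1 hg).1]]
  rw [Multiset.count_cons_self, Nat.choose_succ_succ', Nat.choose_one_right, pow_succ, mul_add,
    pow_add]
  ring

open scoped Classical in
theorem mu_eq [Fintype (Submodule F V)] (hc : Complemented φ) :
    ∀ (W : Submodule F V) (hW : Inv φ W),
      mu φ W = val (Fintype.card F : ℂ) (normalizedFactors (chi hW)) := by
  suffices ∀ d, ∀ (W : Submodule F V) (hW : Inv φ W), finrank F W = d →
      mu φ W = val (Fintype.card F : ℂ) (normalizedFactors (chi hW)) from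
    fun W hW => this _ W hW rfl
  intro d
  induction d using Nat.strong_induction_on with
  | _ d ih =>
    intro W hW hd
    by_cases h0 : W = ⊥
    · subst h0
      have hchi : chi hW = 1 := by
        have h1 := LinearMap.charpoly_natDegree (res hW)
        rw [finrank_bot] at h1
        exact (LinearMap.charpoly_monic (res hW)).natDegree_eq_zero.1 h1
      rw [mu_bot, hchi, normalizedFactors_one, val]
      simp
    obtain ⟨S, hS, hSW, hmin⟩ := exists_isMin hW h0
    obtain ⟨U₀, hU₀, -, hsup, hinf⟩ := hc.split hW hS hSW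
    set N := normalizedFactors (chi hU₀)
    have hNW : normalizedFactors (chi hW) = chi hS ::ₘ N := by
      rw [chi_mul (hS := hS) (hU := hU₀) hsup hinf,
        normalizedFactors_mul chi_ne_zero chi_ne_zero,
        hmin.factors]
      exact Multiset.singleton_add _ _
    let Co : Finset (Submodule F V) :=
      univ.filter fun U => Inv φ U ∧ S ⊔ U = W ∧ S ⊓ U = ⊥
    have hval : ∀ U ∈ Co, mu φ U = val (Fintype.card F : ℂ) N := fun U hU => by
      obtain ⟨hUi, h1, h2⟩ := (Finset.mem_filter.1 hU).2
      rw [ih _ (hd ▸ split_finrank_lt hmin.1 h1 h2) U hUi rfl]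
      have := chi_mul (hS := hS) (hU := hUi) (hW := hW) h1 h2
      rw [chi_mul (hS := hS) (hU := hU₀) hsup hinf] at this
      exact congrArg (fun x => val _ (normalizedFactors x)) (mul_left_cancel₀ chi_ne_zero this).symm
    have hset : univ.filter (fun U => Inv φ U ∧ U ⊔ S = W) = insert W Co := by
      ext U
      simp only [Co, Finset.mem_insert, Finset.mem_filter, Finset.mem_univ, true_and]
      constructor
      · rintro ⟨h1, h2⟩
        rcases hmin.2 _ (hS.inf h1) inf_le_left with h | h
        · exact Or.inr ⟨h1, by rw [sup_comm]; exact h2, h⟩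
        · left
          rw [← h2, sup_eq_left.2 (inf_eq_left.1 h)]
      · rintro (rfl | ⟨h1, h2, -⟩)
        · exact ⟨hW, sup_eq_left.2 hSW⟩
        · exact ⟨h1, by rw [sup_comm]; exact h2⟩
    have hWnot : W ∉ Co := fun h => by
      have h2 := (Finset.mem_filter.1 h).2.2.2
      exact hmin.1 (by rwa [inf_eq_left.2 hSW] at h2)
    have hcard : Co.card = Fintype.card F ^ ((chi hS).natDegree * N.count (chi hS)) := by
      rw [← card_homs hc hmin U₀ hU₀, ← Fintype.card_coe, ← Nat.card_eq_fintype_card]
      refine (Nat.card_eq_of_bijective (fun f : homs hU₀ hS =>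
        (⟨LinearMap.range (U₀.subtype + S.subtype ∘ₗ f.1),
          Finset.mem_filter.2 ⟨Finset.mem_univ _, ?_, ?_, ?_⟩⟩ : Co)) ⟨?_, ?_⟩).symm
      · rintro _ ⟨u, rfl⟩
        refine ⟨res hU₀ u, ?_⟩
        simp only [LinearMap.add_apply, LinearMap.comp_apply, Submodule.coe_subtype, map_add, res_coe]
        exact congrArg (φ (u : V) + ·) (congrArg Subtype.val (LinearMap.congr_fun f.2 u))
      · refine le_antisymm (sup_le hSW ?_) ?_
        · rintro _ ⟨u, rfl⟩
          exact W.add_mem (hsup ▸ Submodule.mem_sup_right u.2) (hSW (f.1 u).2)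
        · rw [← hsup]
          refine sup_le le_sup_left fun u hu => ?_
          have : u = -(f.1 ⟨u, hu⟩ : V) + (u + (f.1 ⟨u, hu⟩ : V)) := by abel
          rw [this]
          exact Submodule.add_mem_sup (S.neg_mem (f.1 _).2) ⟨⟨u, hu⟩, rfl⟩
      · refine (Submodule.eq_bot_iff _).2 ?_
        rintro _ ⟨hx, u, rfl⟩
        have hu : (u : V) ∈ S ⊓ U₀ := ⟨by
          simpa using S.sub_mem hx (f.1 u).2, u.2⟩
        rw [hinf, Submodule.mem_bot] at hu
        rw [show u = 0 from Subtype.ext hu, map_zero]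
      · intro f g e
        refine Subtype.ext (LinearMap.ext fun u => Subtype.ext ?_)
        have h1 : (u : V) + (f.1 u : V) ∈ LinearMap.range (U₀.subtype + S.subtype ∘ₗ g.1) := by
          exact le_of_eq (congrArg Subtype.val e) ⟨u, rfl⟩
        obtain ⟨u', hu'⟩ := h1
        simp only [LinearMap.add_apply, LinearMap.comp_apply, Submodule.coe_subtype] at hu'
        have hu : (u' : V) - u ∈ S ⊓ U₀ :=
          ⟨by rw [show (u' : V) - u = (f.1 u : V) - g.1 u' by
              rw [sub_eq_sub_iff_add_eq_add, hu', add_comm]]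
              exact S.sub_mem (f.1 u).2 (g.1 u').2,
            U₀.sub_mem u'.2 u.2⟩
        rw [hinf, Submodule.mem_bot, sub_eq_zero] at hu
        obtain rfl : u' = u := Subtype.ext hu
        exact (add_left_cancel hu').symm
      · rintro ⟨U, hU⟩
        obtain ⟨hUi, h1, h2⟩ := (Finset.mem_filter.1 hU).2
        have hex : ∀ u : U₀, ∃ s : S, (u : V) + s ∈ U := fun u => by
          obtain ⟨s, hs, x, hx, hsx⟩ := Submodule.mem_sup.1
            (show (u : V) ∈ S ⊔ U by rw [h1, ← hsup]; exact Submodule.mem_sup_right u.2)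
          exact ⟨⟨-s, S.neg_mem hs⟩, by
            rw [show (u : V) + ((⟨-s, S.neg_mem hs⟩ : S) : V) = x by rw [← hsx]; simp]; exact hx⟩
        choose g hg using hex
        have uniq : ∀ (u : U₀) (s : S), (u : V) + s ∈ U → g u = s := fun u s hs => by
          have hm : (g u : V) - s ∈ S ⊓ U := ⟨S.sub_mem (g u).2 s.2, by
            have := U.sub_mem (hg u) hs
            rwa [add_sub_add_left_eq_sub] at this⟩
          rw [h2, Submodule.mem_bot, sub_eq_zero] at hm
          exact Subtype.ext hm
        let gl : U₀ →ₗ[F] S :=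
          { toFun := g
            map_add' := fun a b => uniq _ _ (by
              have := U.add_mem (hg a) (hg b)
              rwa [add_add_add_comm] at this)
            map_smul' := fun c a => uniq _ _ (by
              have := U.smul_mem c (hg a)
              rwa [smul_add] at this) }
        refine ⟨⟨gl, LinearMap.ext fun u => uniq _ _ ?_⟩, Subtype.ext (le_antisymm ?_ ?_)⟩
        · have := hUi _ (hg u)
          rwa [map_add] at this
        · rintro _ ⟨u, rfl⟩
          exact hg u
        · intro x hx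
          have hxW : x ∈ S ⊔ U₀ := by rw [hsup, ← h1]; exact Submodule.mem_sup_right hx
          obtain ⟨s, hs, u, hu, rfl⟩ := Submodule.mem_sup.1 hxW
          refine ⟨⟨u, hu⟩, ?_⟩
          have : g ⟨u, hu⟩ = ⟨s, hs⟩ := uniq _ _ (by rw [add_comm]; exact hx)
          show u + (g ⟨u, hu⟩ : V) = s + u
          rw [this, add_comm]
    have key := weisner (φ := φ) hmin.1 hS W hW hSW
    rw [hset, Finset.sum_insert hWnot, Finset.sum_congr rfl hval, Finset.sum_const, nsmul_eq_mul,
      hcard, Nat.cast_pow] at key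
    rw [hNW, val_cons, neg_mul, eq_neg_iff_add_eq_zero]
    exact key

end CfsgLib.GLn.StValues
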