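import Mathlib.FieldTheory.Separable
import Cfsg.Agent.GLn.StValues.Semisimple
import Cfsg.Agent.GLn.StValues.FlagCosets

/-! The Steinberg character at semisimple elements. -/

set_option autoImplicit false

namespace CfsgLib.GLn.StValues

open Finset Module Polynomial UniqueFactorizationMonoid
open scoped MatrixGroups

variable {F : Type*} [Field F] [Fintype F] {n : ℕ}

open scoped Classical in
theorem steinberg_eq_mu [Fintype (Submodule F (Fin n → F))] (x : GL (Fin n) F) :
    Cfsg.unipotentCharacterGL n F (fun _ => 1) x = (-1 : ℂ) ^ n * mu (lin x) ⊤ := by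
  have hsum : Cfsg.unipotentCharacterGL n F (fun _ => 1) x =
      ∑ E ∈ (Ico 1 n).powerset, (-1 : ℂ) ^ (n - 1 - E.card) *
        (Nat.card (Flags (lin x) (cutFloor n E)) : ℂ) := by
    rw [← sum_valid (fun E => (Nat.card (Flags (lin x) (cutFloor n E)) : ℂ)), sum_filter]
    refine sum_congr rfl fun κ _ => ?_
    by_cases hv : Valid κ
    · rw [if_pos hv, if_pos (fun i => by rw [add_comm]; exact hv i)]
      rw [fixedPointCharacter_eq_flags (sum_part κ hv),
        show prefixSum (fun i : Fin n => 1 + i.val - (κ i).val) = cutFloor n (cuts κ) from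
          funext (prefixSum_cuts κ hv)]
    · rw [if_neg hv, if_neg (fun h => hv fun i => by have := h i; simp only at this; omega)]
  rw [hsum]
  rcases Nat.eq_zero_or_pos n with h | h
  · subst h
    have hflags : Nat.card (Flags (lin x) (cutFloor 0 ∅)) = 1 := by
      rw [Nat.card_eq_one_iff_unique]
      have hall : ∀ W : Submodule F (Fin 0 → F), W = ⊥ := fun W =>
        (Submodule.eq_bot_iff W).2 fun v _ => Subsingleton.elim v 0
      refine ⟨⟨fun a b => Subtype.ext (funext fun k => (hall _).trans (hall _).symm)⟩,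
        ⟨⟨fun _ => ⊥, monotone_const, fun k => ?_, fun _ => inv_bot⟩⟩⟩
      rw [finrank_bot, cutFloor_of_ge ∅ (empty_subset _) (Nat.zero_le k)]
    have htb : (⊤ : Submodule F (Fin 0 → F)) = ⊥ :=
      (Submodule.eq_bot_iff _).2 fun v _ => Subsingleton.elim v 0
    rw [htb, mu_bot]
    simp [hflags]
  · exact sum_flags (by simp) h

theorem complemented (p : ℕ) [hp : Fact p.Prime] [CharP F p] (x : GL (Fin n) F)
    (hx : (orderOf x).Coprime p) : Complemented (lin x) := by
  have hr : (orderOf x : F) ≠ 0 := fun h =>
    hp.out.coprime_iff_not_dvd.1 hx.symm ((CharP.cast_eq_zero_iff F p _).1 h)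
  have hpow : ∀ k, (lin x) ^ k = lin (x ^ k) := fun k => by
    induction k with
    | zero => rw [pow_zero, pow_zero, lin_one]; rfl
    | succ k ih => rw [pow_succ, pow_succ, ih, lin_mul]; rfl
  have hss : Module.End.IsSemisimple (lin x) :=
    Module.End.isSemisimple_of_squarefree_aeval_eq_zero (p := X ^ orderOf x - 1)
      ((X_pow_sub_one_separable_iff (F := F)).2 hr).squarefree
      (by rw [map_sub, map_pow, aeval_X, map_one, hpow, pow_orderOf_eq_one, lin_one]; exact sub_self _)
  intro W hW
  obtain ⟨U, hU, hc⟩ := Module.End.isSemisimple_iff.1 hss W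
    ((Module.End.mem_invtSubmodule_iff_forall_mem_of_mem _).2 hW)
  exact ⟨U, (Module.End.mem_invtSubmodule_iff_forall_mem_of_mem _).1 hU, hc⟩

variable [DecidableEq F]

theorem chi_top (x : GL (Fin n) F) :
    chi (inv_top (φ := lin x)) = (x : Matrix (Fin n) (Fin n) F).charpoly := by
  have : res (inv_top (φ := lin x)) = (Submodule.topEquiv (R := F) (M := Fin n → F)).symm.conj (lin x) := by
    refine LinearMap.ext fun w => ?_
    rw [LinearEquiv.conj_apply_apply]
    exact Subtype.ext rfl
  rw [chi, this, LinearEquiv.charpoly_conj, ← LinearMap.charpoly_toMatrix (lin x) (Pi.basisFun F (Fin n))]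
  congr 1
  rw [LinearMap.toMatrix_eq_toMatrix', lin, ← Matrix.toLin'_apply', LinearMap.toMatrix'_toLin']

theorem sum_natDegree (x : GL (Fin n) F) :
    ((normalizedFactors (x : Matrix (Fin n) (Fin n) F).charpoly).map Polynomial.natDegree).sum = n := by
  have hne := (Matrix.charpoly_monic (x : Matrix (Fin n) (Fin n) F)).ne_zero
  rw [← natDegree_multiset_prod _ (fun h0 => not_irreducible_zero (irreducible_of_normalized_factor 0 h0)),
    UniqueFactorizationMonoid.prod_normalizedFactors_eq hne,
    (Matrix.charpoly_monic _).normalize_eq_self, Matrix.charpoly_natDegree_eq_dim, Fintype.card_fin]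

theorem steinberg_value (p : ℕ) [Fact p.Prime] [CharP F p] (x : GL (Fin n) F)
    (hx : (orderOf x).Coprime p) :
    Cfsg.unipotentCharacterGL n F (fun _ => 1) x =
      ∏ f ∈ (normalizedFactors (x : Matrix (Fin n) (Fin n) F).charpoly).toFinset,
        (-1 : ℂ) ^ ((f.natDegree - 1) * (normalizedFactors (x : Matrix (Fin n) (Fin n) F).charpoly).count f) *
          (Fintype.card F : ℂ) ^ (f.natDegree * (normalizedFactors (x : Matrix (Fin n) (Fin n) F).charpoly).count f *
            ((normalizedFactors (x : Matrix (Fin n) (Fin n) F).charpoly).count f - 1) / 2) := by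
  classical
  have : Finite (Submodule F (Fin n → F)) :=
    Finite.of_injective (fun W => (W : Set (Fin n → F))) SetLike.coe_injective
  have := Fintype.ofFinite (Submodule F (Fin n → F))
  rw [steinberg_eq_mu, mu_eq (complemented p x hx) ⊤ inv_top, chi_top, val]
  set N := normalizedFactors (x : Matrix (Fin n) (Fin n) F).charpoly with hN
  have hn : ∑ f ∈ N.toFinset, N.count f * f.natDegree = n := by
    conv_rhs => rw [← sum_natDegree x]
    rw [← hN, Finset.sum_multiset_map_count]
    simp [smul_eq_mul]
  conv_lhs => arg 1; rw [← hn, ← Finset.prod_pow_eq_pow_sum]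
  rw [← Finset.prod_mul_distrib]
  refine Finset.prod_congr rfl fun f hf => ?_
  have h1 : 1 ≤ f.natDegree :=
    (irreducible_of_normalized_factor f (Multiset.mem_toFinset.1 hf)).natDegree_pos
  rw [← mul_assoc, ← pow_add, Nat.choose_two_right, mul_assoc f.natDegree (N.count f),
    Nat.mul_div_assoc _ (Nat.even_mul_pred_self _).two_dvd]
  congr 1
  refine neg_one_pow_congr ?_
  obtain ⟨d, hd⟩ : ∃ d, f.natDegree = d + 1 := ⟨_, (Nat.succ_pred_eq_of_pos h1).symm⟩
  rw [hd, Nat.add_sub_cancel, show N.count f * (d + 1) + N.count f = d * N.count f + 2 * N.count f by ring]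
  simp [parity_simps]

end CfsgLib.GLn.StValues
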